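import Groth.Agent.H25Par.StalkProd
import Groth.Agent.H11Ample.Tensor
import Groth.Agent.H12Pic.NegTwistPn
import Groth.Agent.H28NT.Connectedness

/-!
# A section generating at finitely many points
-/

set_option autoImplicit false
set_option linter.style.haveILetI false
set_option linter.unusedSectionVars false
set_option backward.isDefEq.respectTransparency.types false

universe u

open CategoryTheory CategoryTheory.Limits AlgebraicGeometry TopologicalSpace Opposite

namespace Groth.Agent.H10Coh.CurveTwist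

open H11Ample H11Tilde

variable {k : Type u} [Field k] {X : Scheme.{u}} [X.Over (Spec (CommRingCat.of k))]

/-- Over an infinite field a globally generated invertible module has a section generating at finitely many
given points. -/
theorem exists_gen_of_finite [Infinite k] {M : X.Modules} (hM : PicF.IsInvertible M)
    (hgg : Curv2.IsGloballyGenerated M) {S : Set X} (hS : S.Finite) :
    ∃ t : Γ(M, ⊤), ∀ x ∈ S, x ∈ gen M t := by
  haveI := hS.to_subtype
  choose V e hxV he using fun x : S => exists_gen hM x.1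
  let b : ∀ x : S, M.presheaf.stalk x.1 := fun x => M.presheaf.germ (V x) x.1 (hxV x) (e x)
  let Bad : ∀ x : S, Submodule k (H25Par.Stk k M x.1) := fun x =>
    { carrier := {z | ∃ c : X.presheaf.stalk x.1, ¬ IsUnit c ∧ c • b x = (z : M.presheaf.stalk x.1)}
      add_mem' := by
        rintro z z' ⟨c, hc, rfl⟩ ⟨c', hc', rfl⟩
        exact ⟨c + c', fun h => (IsLocalRing.isUnit_or_isUnit_of_isUnit_add h).elim hc hc', add_smul _ _ _⟩
      zero_mem' := ⟨0, not_isUnit_zero, zero_smul _ _⟩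
      smul_mem' := by
        rintro a z ⟨c, hc, rfl⟩
        exact ⟨H25Par.constStalk (k := k) x.1 a * c, fun h => hc (isUnit_of_mul_isUnit_right h), mul_smul _ _ _⟩ }
  let W : S → Submodule k (Coh.HH X M 0) := fun x =>
    (Bad x).comap ((LinearMap.proj ⟨x.1, rfl⟩).comp (H25Par.germs (k := k) M {x.1}))
  have hmem : ∀ x v, v ∈ W x ↔ ∃ c : X.presheaf.stalk x.1, ¬ IsUnit c ∧
      c • b x = M.presheaf.germ ⊤ x.1 trivial (HH0Equiv M v) := fun x v => Iff.rfl
  have hW : ∀ x, W x ≠ ⊤ := fun x htop => by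
    obtain ⟨g, hg⟩ := exists_mem_gen_of_isGloballyGenerated hM hgg x.1
    obtain ⟨c, hc, hcg⟩ := (hmem x ((HH0Equiv M).symm g)).1 (htop ▸ trivial)
    rw [AddEquiv.apply_symm_apply] at hcg
    obtain ⟨d, hd⟩ := ((mem_gen_iff hM g x.1).1 hg).2 (b x)
    refine hc (IsUnit.of_mul_eq_one (a := c) d ((he x x.1 (hxV x)).1 ?_))
    change (c * d) • b x = (1 : X.presheaf.stalk x.1) • b x
    rw [one_smul, mul_comm, mul_smul, hcg]
    exact hd
  obtain ⟨v, hv⟩ := H12Pic.NegTwistPn.exists_notMem_of_ne_top W hW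
  refine ⟨HH0Equiv M v, fun x hx => (mem_gen_iff hM _ x).2 ?_⟩
  obtain ⟨c, hc⟩ := (he ⟨x, hx⟩ x (hxV ⟨x, hx⟩)).2 (M.presheaf.germ ⊤ x trivial (HH0Equiv M v))
  have hcu : IsUnit c := not_not.1 fun h => hv ⟨x, hx⟩ ((hmem ⟨x, hx⟩ v).2 ⟨c, h, hc⟩)
  obtain ⟨c, rfl⟩ := hcu
  have h : (fun r : X.presheaf.stalk x => r • M.presheaf.germ ⊤ x trivial (HH0Equiv M v)) =
      (fun r : X.presheaf.stalk x => r • b ⟨x, hx⟩) ∘ fun r => r * (c : X.presheaf.stalk x) := by
    funext r
    show r • _ = (r * (c : X.presheaf.stalk x)) • b ⟨x, hx⟩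
    rw [mul_smul]
    exact congrArg (r • ·) hc.symm
  rw [h]
  exact (he ⟨x, hx⟩ x (hxV ⟨x, hx⟩)).comp c.mulRight_bijective

end Groth.Agent.H10Coh.CurveTwist
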