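import Groth.Agent.H22Alg.KosTwist
import Groth.Agent.H25Euler.Degree
import Groth.Agent.H28NT.Connectedness
import Groth.Agent.H29RR.Degree
import Groth.Agent.H17.PushColim

/-!
# Twisting a restriction map by a section without zeros on the support
-/

set_option autoImplicit false
set_option linter.style.haveILetI false
set_option linter.unusedSectionVars false
set_option backward.isDefEq.respectTransparency.types false

universe u

open CategoryTheory CategoryTheory.Limits AlgebraicGeometry TopologicalSpace Opposite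

namespace Groth.Agent.H10Coh.CurveTwist

open H11Ample H11Tilde

variable {X : Scheme.{u}}

/-- A section without zeros on the support of `C` trivializes the twist of `C`. -/
theorem isIso_mulHom {C M : X.Modules} (t : Γ(M, ⊤)) (h : ∀ x ∈ CohB1.support C, x ∈ gen M t) :
    IsIso (H22Alg.KosTwist.mulHom C t) := by
  refine H17.PushColim.isIso_of_stalkAb _ fun x => ?_
  rw [ConcreteCategory.isIso_iff_bijective]
  let St := DerSch.stalkFunctor X x
  suffices hs : Function.Bijective (St.map (H22Alg.KosTwist.mulHom C t)).hom from hs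
  by_cases hx : x ∈ CohB1.support C
  · haveI h1 := H25Euler.isIso_stalk_of_mem_genLocus (homOfGlobal M t) (h x hx)
    have h2 : IsIso ((((DCoh.tensorBi (X := X)).obj C) ⋙ St).map (homOfGlobal M t)) := by
      rw [NatIso.isIso_map_iff (H16Derived.KFlat.Stalk.leftIso C x) (homOfGlobal M t)]
      exact inferInstanceAs (IsIso ((MonoidalCategory.tensorLeft _).map _))
    haveI h3 : IsIso (St.map (H22Alg.KosTwist.tensorLeftMap C (homOfGlobal M t))) := h2
    haveI : IsIso (St.map (H22Alg.KosTwist.mulHom C t)) := by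
      rw [H22Alg.KosTwist.mulHom, Functor.map_comp]; infer_instance
    exact ConcreteCategory.bijective_of_isIso _
  · haveI h1 : Subsingleton (C.presheaf.stalk x) := not_not.1 hx
    haveI h2 : Subsingleton ((CohB1.tensorMod C M).presheaf.stalk x) :=
      not_not.1 fun h => hx (H25Euler.support_tensor_subset C M h)
    exact ⟨fun a b _ => @Subsingleton.elim _ h1 a b, fun b => ⟨0, @Subsingleton.elim _ h2 _ _⟩⟩

/-- If all sections of `C` lift to `B`, so do those of the twist. -/
theorem surjective_app_top_twist {B C M : X.Modules} (φ : B ⟶ C) (t : Γ(M, ⊤))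
    (h : ∀ x ∈ CohB1.support C, x ∈ gen M t) (hφ : Function.Surjective (φ.app ⊤)) :
    Function.Surjective ((LimSh.tensorModMap φ M).app ⊤) := by
  intro q
  haveI := isIso_mulHom (C := C) t h
  obtain ⟨s, hs⟩ := hφ ((inv (H22Alg.KosTwist.mulHom C t)).app ⊤ q)
  refine ⟨tm s t, ?_⟩
  rw [H10Coh.Tw.map_tm, hs]
  have h2 := congr($(congrArg (fun k => Scheme.Modules.Hom.app k ⊤) (IsIso.inv_hom_id (H22Alg.KosTwist.mulHom C t))) q)
  refine Eq.trans ?_ h2
  refine ((H22Alg.KosTwist.mulHom_app C t ⊤ _).trans (congrArg (tm _) (H10Coh.mres_self M _ _))).symm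

variable {k : Type u} [Field k] [X.Over (Spec (CommRingCat.of k))] [IsProper (X ↘ Spec (CommRingCat.of k))]

theorem surjective_app_top_iff {A B : X.Modules} (φ : A ⟶ B) :
    Function.Surjective (φ.app ⊤) ↔ Function.Surjective (Canon.HHlin k φ 0) := by
  have h : ∀ v, H10Coh.HH0Equiv B (Canon.HHlin k φ 0 v) = φ.app ⊤ (H10Coh.HH0Equiv A v) :=
    fun v => H28NT.HH0Equiv_map φ v
  refine ⟨fun hs w => ?_, fun hs b => ?_⟩
  · obtain ⟨a, ha⟩ := hs (H10Coh.HH0Equiv B w)
    refine ⟨(H10Coh.HH0Equiv A).symm a, (H10Coh.HH0Equiv B).injective ?_⟩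
    rw [h, AddEquiv.apply_symm_apply, ha]
  · obtain ⟨v, hv⟩ := hs ((H10Coh.HH0Equiv B).symm b)
    exact ⟨H10Coh.HH0Equiv A v, by rw [← h, hv, AddEquiv.apply_symm_apply]⟩

/-- When all sections of the finitely supported third term lift, the first cohomologies agree in dimension. -/
theorem finrank_h1_eq (hdim : topologicalKrullDim X ≤ 1) [IsIntegral X] {S : ShortComplex X.Modules} (hS : S.ShortExact)
    (h₁ : Coh.IsCoh S.X₁) (h₂ : Coh.IsCoh S.X₂) (h₃ : Coh.IsCoh S.X₃)
    (hfin : (CohB1.support S.X₃).Finite) (hcl : ∀ z ∈ CohB1.support S.X₃, IsClosed ({z} : Set X))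
    (hsurj : Function.Surjective (S.g.app ⊤)) :
    Module.finrank k (Coh.HH X S.X₁ 1) = Module.finrank k (Coh.HH X S.X₂ 1) := by
  haveI := H29RR.isNoetherian_of_proper (k := k) (X := X)
  haveI := H10Coh.finite_HH_proper k X _ h₁ 0
  haveI := H10Coh.finite_HH_proper k X _ h₂ 0
  haveI := H10Coh.finite_HH_proper k X _ h₃ 0
  have hadd := H25Euler.euler_add (k := k) hS h₁ h₂ h₃
  rw [H29RR.euler_eq_sub (k := k) hdim, H29RR.euler_eq_sub (k := k) hdim, H29RR.euler_eq_sub (k := k) hdim] at hadd
  haveI : Subsingleton (Coh.HH X S.X₃ 1) :=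
    H25Par.subsingleton_HH_of_finite_support _ hfin hcl (fun y hy => not_not.1 hy) one_pos
  rw [Module.finrank_zero_of_subsingleton (R := k) (M := Coh.HH X S.X₃ 1)] at hadd
  have a1 := LinearMap.finrank_range_add_finrank_ker (Canon.HHlin k S.g 0)
  rw [LinearMap.range_eq_top.2 ((surjective_app_top_iff (k := k) S.g).1 hsurj), finrank_top,
    H25Par.hhlin_exact (k := k) hS] at a1
  have hinj : Function.Injective (Canon.HHlin k S.f 0) := by
    haveI := hS.mono_f
    intro a b hab
    refine (H10Coh.HH0Equiv S.X₁).injective (H10Coh.injective_app_of_mono' S.f ⊤ ?_)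
    have ha := H28NT.HH0Equiv_map S.f a
    have hb := H28NT.HH0Equiv_map S.f b
    rw [← ha, ← hb]
    exact congrArg _ hab
  rw [LinearMap.finrank_range_of_inj hinj] at a1
  omega

end Groth.Agent.H10Coh.CurveTwist
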