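import Groth.Agent.H10Coh.CurveTwist.GenFinite
import Groth.Agent.H10Coh.CurveTwist.Step
import Groth.Agent.H10Coh.SerreVanishing2
import Groth.Agent.H11Ample.UnitIso
import Groth.Agent.H10Coh.TwistExact
import Groth.Agent.H22Alg.CurveAmple
import Groth.Agent.H27KZero.TensorRank
import Groth.Agent.H29RR.IdealCurve
import Groth.Agent.H29RR.Consts
import Groth.Agent.H29CurveDual.SingularVanish
import Groth.Agent.H29Blow.IdealMod
import Groth.Agent.H11Sym.InvertibleInverse
import Groth.Agent.H17.GabRos.Complement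

/-!
# Vanishing of first cohomology from surjectivity of restriction to a divisor of large degree
-/

set_option autoImplicit false
set_option linter.style.haveILetI false
set_option linter.unusedSectionVars false
set_option backward.isDefEq.respectTransparency.types false

universe u

open CategoryTheory CategoryTheory.Limits AlgebraicGeometry TopologicalSpace Opposite

namespace Groth.Agent.H10Coh.CurveTwist

open H11Ample H11Tilde

attribute [local instance 10000] H10Coh.hasSheafifyAb H10Coh.hasWeakSheafifyAb H10Coh.hasExtAb H10Coh.enoughInjAb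

variable {k : Type u} [Field k] {X : Scheme.{u}} [X.Over (Spec (CommRingCat.of k))]
  [IsProper (X ↘ Spec (CommRingCat.of k))] [IsIntegral X] [Smooth (X ↘ Spec (CommRingCat.of k))] [IsAlgClosed k]

theorem not_isZero_of_isInvertible {L : X.Modules} (hL : PicF.IsInvertible L) : ¬ IsZero L := fun h0 => by
  have h1 := (H25Euler.notMem_support_iff L (genericPoint X)).2
    ((DerSch.stalkFunctor X (genericPoint X)).map_isZero h0)
  obtain ⟨V, e, hx, he⟩ := exists_gen hL (genericPoint X)
  haveI : Subsingleton (L.presheaf.stalk (genericPoint X)) := not_not.1 h1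
  exact zero_ne_one (α := X.presheaf.stalk (genericPoint X)) ((he (genericPoint X) hx).1 (Subsingleton.elim _ _))

/-- The degree of a divisor ideal. -/
theorem deg_idealMod (hdim : topologicalKrullDim X ≤ 1) {I : X.IdealSheafData} (hI : BlowUp.IsEffCartierIdeal I) :
    Curv2.deg k X (ClSub.idealMod I) 1 = -(Module.finrank k (Coh.HH X (ClSub.quotMod I) 0) : ℤ) :=
  (H29RR.ideal_colength hdim I
    (not_isZero_of_isInvertible (H29Blow.isInvertible_of_isEffCartierIdeal _ hI))).2

/-- The twisted restriction sequence of a finite locally free module. -/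
theorem exists_res_seq [IsNoetherian X] {T : X.Modules} (hT : FlatMod.IsFinLocFree T) (D : X.IdealSheafData) :
    ∃ w : H22Alg.KosTwist.tensorLeftMap T (ClSub.idealModι D) ≫
        H22Alg.KosTwist.tensorLeftMap T (ClSub.toSubscheme D) = 0,
      (ShortComplex.mk _ _ w).ShortExact := by
  haveI := H10Coh.epi_toSubscheme D
  have hS₀ : (ShortComplex.mk (ClSub.idealModι D) (ClSub.toSubscheme D) (kernel.condition _)).ShortExact :=
    { exact := ShortComplex.exact_kernel _, mono_f := inferInstanceAs (Mono (kernel.ι _)) }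
  have hS₁ := H27KZero.shortExact_tensorLeft hT hS₀
  exact ⟨((ShortComplex.mk (ClSub.idealModι D) (ClSub.toSubscheme D) (kernel.condition _)).map
    ((DCoh.tensorBi (X := X)).obj T)).zero, hS₁⟩

/-- One step: twisting by a section without zeros on the divisor. -/
theorem step (hdim : topologicalKrullDim X ≤ 1) {S : ShortComplex X.Modules} (hS : S.ShortExact)
    {A F₁ F₂ : X.Modules} (hA : PicF.IsInvertible A) (e₁ : CohB1.tensorMod S.X₁ A ≅ F₁)
    (e₂ : CohB1.tensorMod S.X₂ A ≅ F₂) (hF₁ : Coh.IsCoh F₁) (hF₂ : Coh.IsCoh F₂) (h₃ : Coh.IsCoh S.X₃)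
    {Z : Set X} (hZfin : Z.Finite) (hZcl : ∀ z ∈ Z, IsClosed ({z} : Set X)) (hsupp : CohB1.support S.X₃ ⊆ Z)
    (t : Γ(A, ⊤)) (ht : ∀ x ∈ Z, x ∈ gen A t) (hsurj : Function.Surjective (S.g.app ⊤)) :
    Module.finrank k (Coh.HH X F₁ 1) = Module.finrank k (Coh.HH X F₂ 1) := by
  have hs : CohB1.support (CohB1.tensorMod S.X₃ A) ⊆ Z := (H25Euler.support_tensor_subset _ A).trans hsupp
  have h := finrank_h1_eq (k := k) hdim (H10Coh.Tw.shortExact_seq hS hA) (H10Coh.isCoh_of_iso e₁.symm hF₁)
    (H10Coh.isCoh_of_iso e₂.symm hF₂) (H11Ample.isCoh_tensor h₃ hA)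
    (hZfin.subset hs) (fun z hz => hZcl z (hs hz))
    (surjective_app_top_twist S.g t (fun x hx => ht x (hsupp hx)) hsurj)
  exact (H22Alg.CurveAmple.finrank_HH_congr e₁ 1).symm.trans
    (h.trans (H22Alg.CurveAmple.finrank_HH_congr e₂ 1))

set_option maxHeartbeats 400000 in
theorem subsingleton_h1 (hdim : topologicalKrullDim X = 1) {T : X.Modules} (hT : FlatMod.IsFinLocFree T)
    (D : X.IdealSheafData) (hD : BlowUp.IsEffCartierIdeal D)
    (hD1 : 1 ≤ Module.finrank k (Coh.HH X (ClSub.quotMod D) 0))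
    (hsurj : Function.Surjective ((H22Alg.KosTwist.tensorLeftMap T (ClSub.toSubscheme D)).app ⊤))
    (E : X.IdealSheafData) (hE : BlowUp.IsEffCartierIdeal E)
    (hdeg : Module.finrank k (Coh.HH X (ClSub.quotMod E) 0) + 2 * Curv2.genus k X ≤
      Module.finrank k (Coh.HH X (ClSub.quotMod D) 0)) :
    Subsingleton (Coh.HH X (CohB1.tensorMod T (ClSub.idealMod E)) 1) := by
  haveI := H29RR.isNoetherian_of_proper (k := k) (X := X)
  let I := ClSub.idealMod D
  let J := ClSub.idealMod E
  let Q := ClSub.quotMod D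
  have hI : PicF.IsInvertible I := H29Blow.isInvertible_of_isEffCartierIdeal _ hD
  have hJ : PicF.IsInvertible J := H29Blow.isInvertible_of_isEffCartierIdeal _ hE
  obtain ⟨N, hN, ⟨eN⟩⟩ := H11Sym.exists_inverse hI
  have h0 := H29RR.finrank_h0_structure k X
  have hdN : Curv2.deg k X N 1 = (Module.finrank k (Coh.HH X (ClSub.quotMod D) 0) : ℤ) := by
    have h := H29RR.deg_tensor (k := k) hdim.le hN hI
    rw [H29RR.deg_congr eN, H29RR.deg_structureModule, deg_idealMod hdim.le hD] at h
    omega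
  have hamp : CohB1.IsAmple N := H22Alg.CurveAmple.isAmple_of_deg_pos (k := k) hdim hN (by omega)
  let A : ℕ → X.Modules := fun j => CohB1.tensorMod J (CohB1.tensorPow N j)
  have hA : ∀ j, PicF.IsInvertible (A j) := fun j => isInvertible_tensor hJ (isInvertible_tensorPow hN j)
  let F : ℕ → X.Modules := fun j => CohB1.tensorMod T (A j)
  have hTc : Coh.IsCoh T := H16Derived.KFlat.Stalk.isCoh_of_isFinLocFree hT
  have hFc : ∀ j, Coh.IsCoh (F j) := fun j => H11Ample.isCoh_tensor hTc (hA j)
  have hOc := H10Coh.isCoh_structureModule' X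
  have hQc : Coh.IsCoh Q := H24FSch.isCoh_pushforward_of_isClosedImmersion D.subschemeι (H10Coh.isCoh_structureModule' _)
  obtain ⟨w, hS₁⟩ := exists_res_seq hT D
  obtain ⟨hSfin, hScl⟩ := H25Par.finite_of_isClosed_of_notMem hdim.le D.support.isClosed
    (H25Par.genericPoint_notMem (I := D) hD)
  have hQT : Coh.IsCoh (CohB1.tensorMod T Q) :=
    H10Coh.isCoh_of_iso ((cokernelIsCokernel _).coconePointUniqueUpToIso hS₁.gIsCokernel)
      (H10Coh.isCoh_cokernel _ (H11Ample.isCoh_tensor hTc hI).1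
        (H10Coh.isCoh_of_iso (H10Coh.Tw.rightUnitIso T).symm hTc))
  have hsuppQ : CohB1.support Q = (D.support : Set X) := H17.GabRos.support_quotMod D
  have hstep : ∀ j, Module.finrank k (Coh.HH X (F j) 1) = Module.finrank k (Coh.HH X (F (j + 1)) 1) := by
    intro j
    have hgg : Curv2.IsGloballyGenerated (A (j + 1)) := by
      refine H29CurveDual.isGloballyGenerated_of_deg_ge (k := k) hdim.le h0 (hA _) ?_
      rw [H29RR.deg_tensor hdim.le hJ (isInvertible_tensorPow hN _),
        H22Alg.CurveAmple.deg_tensorPow (k := k) hdim.le hN, deg_idealMod hdim.le hE, hdN]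
      have hle : (Module.finrank k (Coh.HH X (ClSub.quotMod D) 0) : ℤ) ≤
          ((j + 1 : ℕ) : ℤ) * (Module.finrank k (Coh.HH X (ClSub.quotMod D) 0) : ℤ) :=
        le_mul_of_one_le_left (by positivity) (by omega)
      omega
    obtain ⟨t, ht⟩ := exists_gen_of_finite (k := k) (hA (j + 1)) hgg hSfin
    have e₁ : CohB1.tensorMod (CohB1.tensorMod T I) (A (j + 1)) ≅ F j :=
      H11Ample.tensorAssocIso T I (A (j + 1)) ≪≫ PicGrp.tensorModIso (Iso.refl T)
        (H11Ample.tensorCommIso _ _ ≪≫ H11Ample.tensorAssocIso J (CohB1.tensorPow N (j + 1)) I ≪≫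
          PicGrp.tensorModIso (Iso.refl J) (H11Ample.tensorAssocIso (CohB1.tensorPow N j) N I ≪≫
            PicGrp.tensorModIso (Iso.refl _) eN ≪≫ H10Coh.Tw.rightUnitIso _))
    have e₂ : CohB1.tensorMod (CohB1.tensorMod T (Coh.structureModule X)) (A (j + 1)) ≅ F (j + 1) :=
      PicGrp.tensorModIso (H10Coh.Tw.rightUnitIso T) (Iso.refl _)
    refine step (k := k) (X := X) (A := A (j + 1)) (F₁ := F j) (F₂ := F (j + 1)) hdim.le (S := ShortComplex.mk _ _ w)
      hS₁ (hA (j + 1)) e₁ e₂ (hFc j) (hFc (j + 1)) hQT (Z := (D.support : Set X)) hSfin hScl ?_ t ht hsurj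
    exact (H27KZero.support_tensor_subset_right T Q).trans hsuppQ.le
  obtain ⟨j₀, hj₀⟩ := H10Coh.Tw.exists_vanishing_ample (X ↘ Spec (CommRingCat.of k)) hamp
    (CohB1.tensorMod T J) (H11Ample.isCoh_tensor hTc hJ)
  haveI : Subsingleton (Coh.HH X (F j₀) 1) := H10Coh.subsingleton_HH_of_iso (H11Ample.tensorAssocIso T J (CohB1.tensorPow N j₀)) 1
    (@Equiv.subsingleton _ _ (H10Coh.HHEquiv _ 1).toEquiv (hj₀ j₀ le_rfl 1 one_pos))
  have hall : ∀ j, Module.finrank k (Coh.HH X (F 0) 1) = Module.finrank k (Coh.HH X (F j) 1) := by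
    intro j
    induction j with
    | zero => rfl
    | succ j ih => exact ih.trans (hstep j)
  haveI := H10Coh.finite_HH_proper k X _ (hFc 0) 1
  have h00 : Subsingleton (Coh.HH X (F 0) 1) := Module.finrank_zero_iff.1
    ((hall j₀).trans (Module.finrank_zero_of_subsingleton (R := k) (M := Coh.HH X (F j₀) 1)))
  exact H10Coh.subsingleton_HH_of_iso
    (PicGrp.tensorModIso (Iso.refl T) (H10Coh.Tw.rightUnitIso J) : F 0 ≅ CohB1.tensorMod T J) 1 h00

end Groth.Agent.H10Coh.CurveTwist
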